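import Groth.Agent.BigSite16.GenTop
import Mathlib.AlgebraicGeometry.Sites.BigZariski
import Mathlib.CategoryTheory.Sites.Canonical
import Mathlib.CategoryTheory.Sites.Over
import Mathlib.CategoryTheory.Limits.Constructions.Over.Basic

/-!
# Sheaves for the topology generated by a class of quasi-compact morphisms
-/

set_option autoImplicit false
set_option backward.isDefEq.respectTransparency false
set_option linter.all false

universe v u

open CategoryTheory CategoryTheory.Limits AlgebraicGeometry TopologicalSpace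

namespace Groth.Agent.BigSite16.GenTop

variable {S : Scheme.{u}}

/-- A sieve on an `S`-scheme containing a jointly surjective family of open immersions is a Zariski covering. -/
theorem mem_zariski_over {X : Over S} {ι : Type u} (Ys : ι → Over S) (g : ∀ i, Ys i ⟶ X)
    [∀ i, IsOpenImmersion (g i).left] (hs : ∀ x : X.left, ∃ i, x ∈ Set.range (g i).left) :
    Sieve.generate (Presieve.ofArrows Ys g) ∈ (Scheme.zariskiTopology.over S) X := by
  rw [GrothendieckTopology.mem_over_iff]
  let 𝒱 : X.left.OpenCover :=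
    { I₀ := ι
      X := fun i => (Ys i).left
      f := fun i => (g i).left
      mem₀ := by
        rw [Scheme.presieve₀_mem_precoverage_iff]
        exact ⟨hs, fun i => inferInstanceAs (IsOpenImmersion (g i).left)⟩ }
  refine Scheme.zariskiTopology.superset_covering ?_ (Precoverage.generate_mem_toGrothendieck 𝒱.mem₀)
  rw [Sieve.generate_le_iff]
  rintro Z h ⟨i⟩
  rw [Sieve.overEquiv_iff]
  exact ⟨Ys i, Over.homMk (𝟙 _) (by simp [𝒱]), g i, Presieve.ofArrows.mk i, by ext; simp [𝒱]⟩

variable (C : MorphismProperty Scheme.{u}) [C.IsStableUnderComposition] [C.IsStableUnderBaseChange]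

theorem isSheaf_iff
    (hqc : ∀ {A B : Scheme.{u}} (f : A ⟶ B), C f → QuasiCompact f)
    (haff : ∀ (U : Scheme.{u}) [IsAffine U] (κ : Type u) [Finite κ] (V : κ → U.Opens),
      (∀ j, IsAffineOpen (V j)) → ⨆ j, V j = ⊤ → C (Limits.Sigma.desc fun j => (V j).ι))
    (hres : ∀ (W X' : Scheme.{u}) [IsAffine W] (f : X' ⟶ W), C f →
      ∀ (κ : Type u) [Finite κ] (A : κ → X'.Opens), (∀ l, IsAffineOpen (A l)) → ⨆ l, A l = ⊤ →
        C (Limits.Sigma.desc fun l => (A l).ι ≫ f))
    (J : GrothendieckTopology (Over S)) (hJ : ∀ (X : Over S) (R : Sieve X), R ∈ J X ↔ Cov C X R)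
    (F : (Over S)ᵒᵖ ⥤ Type v) :
    Presieve.IsSheaf J F ↔
      (Presieve.IsSheaf (Scheme.zariskiTopology.over S) F ∧
        ∀ (X X' : Over S) (f : X' ⟶ X), C f.left → Presieve.IsSheafFor F (Presieve.singleton f)) := by
  constructor
  · intro hF
    refine ⟨Presieve.isSheaf_of_le F ?_ hF, fun X X' f hf => ?_⟩
    · intro X R hR
      rw [GrothendieckTopology.mem_over_iff] at hR
      obtain ⟨ι, hι, hs⟩ : ∃ (U : X.left → X.left.Opens), (∀ x, x ∈ U x ∧ IsAffineOpen (U x)) ∧
          ∀ x, Sieve.overEquiv X R (U x).ι := by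
        obtain ⟨𝒰, hle⟩ := Scheme.exists_cover_of_mem_grothendieckTopology hR
        have key : ∀ x : X.left, ∃ U : X.left.Opens, x ∈ U ∧ IsAffineOpen U ∧ U ≤ (𝒰.f (𝒰.idx x)).opensRange := by
          intro x
          obtain ⟨_, ⟨W, hW, rfl⟩, hxW, hle'⟩ := X.left.isBasis_affineOpens.exists_subset_of_mem_open
            (show x ∈ ((𝒰.f (𝒰.idx x)).opensRange : Set X.left) from 𝒰.covers x) (Scheme.Hom.opensRange _).isOpen
          exact ⟨W, hxW, hW, hle'⟩
        choose U hxU hU hUle using key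
        refine ⟨U, fun x => ⟨hxU x, hU x⟩, fun x => ?_⟩
        have e : X.left.homOfLE (hUle x) ≫ (𝒰.f (𝒰.idx x)).isoOpensRange.inv ≫ 𝒰.f (𝒰.idx x) = (U x).ι := by
          rw [Scheme.Hom.isoOpensRange_inv_comp, Scheme.homOfLE_ι]
        rw [← e]
        exact (Sieve.overEquiv X R).downward_closed
          ((Sieve.overEquiv X R).downward_closed (hle _ _ (Presieve.ofArrows.mk _)) _) _
      refine (hJ X R).2 ⟨X.left, ι, fun x => (hι x).2, eq_top_iff.2 fun x _ => Opens.mem_iSup.2 ⟨x, (hι x).1⟩,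
        fun x => ?_⟩
      haveI : IsAffine (ι x : Scheme.{u}) := (hι x).2
      exact ⟨PUnit, inferInstance, fun _ => Over.mk ((ι x).ι ≫ X.hom), fun _ => Over.homMk (ι x).ι rfl, fun _ => 𝟙 _,
        fun _ => (hι x).2, fun _ => (Sieve.overEquiv_iff R _).1 (hs x), fun _ => Category.id_comp _,
        desc_id C haff _⟩
    · refine (Presieve.isSheafFor_iff_generate _).2 (hF _ ((hJ _ _).2 ?_))
      refine ⟨X.left.affineOpens, fun U => U.1, fun U => U.2, iSup_affineOpens_eq_top _, fun U => ?_⟩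
      haveI := hqc f.left hf
      haveI : IsAffine (U.1 : Scheme.{u}) := U.2
      have hc : IsCompact (↑(f.left ⁻¹ᵁ U.1) : Set X'.left) := f.left.isCompact_preimage U.2.isCompact
      haveI : CompactSpace (f.left ⁻¹ᵁ U.1 : Scheme.{u}) := isCompact_iff_compactSpace.1 hc
      let P := (f.left ⁻¹ᵁ U.1 : Scheme.{u})
      obtain ⟨s, hs⟩ := isCompact_univ.elim_finite_subcover (fun W : P.affineOpens => (W.1 : Set P))
        (fun W => W.1.isOpen) (fun x _ => by
          obtain ⟨W, hW⟩ := Opens.mem_iSup.1 ((iSup_affineOpens_eq_top P).ge (Opens.mem_top x))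
          exact Set.mem_iUnion.2 ⟨W, hW⟩)
      let A : ULift.{u} (Fin s.card) → P.Opens := fun k => (s.equivFin.symm k.down).1.1
      have hA : ⨆ k, A k = ⊤ := eq_top_iff.2 fun x _ => by
        obtain ⟨W, hW, hx⟩ := Set.mem_iUnion₂.1 (hs (Set.mem_univ x))
        exact Opens.mem_iSup.2 ⟨⟨s.equivFin ⟨W, hW⟩⟩, by simpa [A] using hx⟩
      refine ⟨_, inferInstance, fun k => Over.mk ((A k).ι ≫ (f.left ⁻¹ᵁ U.1).ι ≫ X'.hom),
        fun k => Over.homMk ((A k).ι ≫ (f.left ⁻¹ᵁ U.1).ι) (Category.assoc _ _ _) ≫ f,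
        fun k => (A k).ι ≫ (f.left ∣_ U.1), fun k => (s.equivFin.symm k.down).1.2,
        fun k => ⟨_, _, f, Presieve.singleton_self f, rfl⟩, fun k => ?_,
        hres _ _ _ (MorphismProperty.of_isPullback (isPullback_morphismRestrict f.left U.1).flip hf) _ A
          (fun k => (s.equivFin.symm k.down).1.2) hA⟩
      simp
  · rintro ⟨hz, hs⟩
    let T := Sheaf.finestTopology {F}
    refine Presieve.isSheaf_of_le F (?_ : J ≤ T) (Sheaf.sheaf_for_finestTopology _ (Set.mem_singleton F))
    have hzT : Scheme.zariskiTopology.over S ≤ T :=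
      Sheaf.le_finestTopology _ _ fun P hP => by
        rw [Set.mem_singleton_iff] at hP
        exact hP ▸ hz
    have hsT : ∀ {X X' : Over S} (f : X' ⟶ X), C f.left → Sieve.generate (Presieve.singleton f) ∈ T X := by
      intro X X' f hf
      refine Sheaf.mem_finestTopology_of_forall_isSheafFor fun P hP Y g => ?_
      rw [Set.mem_singleton_iff] at hP
      subst hP
      rw [← Sieve.pullbackArrows_comm, Presieve.pullback_singleton, ← Presieve.isSheafFor_iff_generate]
      exact hs _ _ _ (MorphismProperty.of_isPullback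
        ((IsPullback.of_hasPullback f g).map (Over.forget S)) hf)
    intro X R hR
    obtain ⟨ι, U, hU, hcov, hP⟩ := (hJ X R).1 hR
    let Ys : ι → Over S := fun i => Over.mk ((U i).ι ≫ X.hom)
    let g : ∀ i, Ys i ⟶ X := fun i => Over.homMk (U i).ι rfl
    haveI : ∀ i, IsOpenImmersion (g i).left := fun i => inferInstanceAs (IsOpenImmersion (U i).ι)
    refine T.transitive (hzT _ (mem_zariski_over Ys g fun x => ?_)) R ?_
    · obtain ⟨i, hi⟩ := Opens.mem_iSup.1 (hcov.ge (Opens.mem_top x))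
      exact ⟨i, ⟨x, hi⟩, rfl⟩
    rintro Z h ⟨_, k, _, ⟨i⟩, rfl⟩
    rw [Sieve.pullback_comp]
    refine T.pullback_stable k ?_
    obtain ⟨κ, _, V, φ, ψ, hV, hRφ, hψ, hC⟩ := hP i
    let B : Over S := Over.mk (Limits.Sigma.desc ψ ≫ (U i).ι ≫ X.hom)
    let p : B ⟶ Ys i := Over.homMk (Limits.Sigma.desc ψ) rfl
    refine T.transitive (hsT p hC) _ ?_
    rintro Z' h' ⟨_, k', _, ⟨⟩, rfl⟩
    rw [Sieve.pullback_comp]
    refine T.pullback_stable k' ?_
    let e : ∀ j, V j ⟶ B := fun j => Over.homMk (U := V j) (V := B) (Limits.Sigma.ι (fun j => (V j).left) j) (by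
      change Limits.Sigma.ι _ j ≫ Limits.Sigma.desc ψ ≫ (U i).ι ≫ X.hom = (V j).hom
      rw [Limits.Sigma.ι_desc_assoc, reassoc_of% hψ, Over.w])
    haveI : ∀ j, IsOpenImmersion (e j).left := fun j =>
      inferInstanceAs (IsOpenImmersion (Limits.Sigma.ι (fun j => (V j).left) j))
    refine T.superset_covering ?_ (hzT _ (mem_zariski_over V e fun x => ?_))
    · rw [Sieve.generate_le_iff]
      rintro W w ⟨j⟩
      change R.arrows ((e j ≫ p) ≫ g i)
      have : (e j ≫ p) ≫ g i = φ j := by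
        ext
        simp [e, p, g, hψ]
      rw [this]
      exact hRφ j
    · obtain ⟨j, y, hy⟩ := (sigmaOpenCover (fun j => (V j).left)).exists_eq x
      exact ⟨j, y, hy⟩

end Groth.Agent.BigSite16.GenTop
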