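import Mathlib.AlgebraicGeometry.Limits
import Mathlib.AlgebraicGeometry.AffineScheme
import Mathlib.CategoryTheory.Extensive
import Mathlib.CategoryTheory.Sites.Grothendieck
import Mathlib.CategoryTheory.MorphismProperty.Limits
import Mathlib.AlgebraicGeometry.Morphisms.QuasiCompact

/-!
# The topology generated by a class of quasi-compact morphisms
-/

set_option autoImplicit false
set_option backward.isDefEq.respectTransparency false
set_option linter.all false

universe u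

open CategoryTheory CategoryTheory.Limits AlgebraicGeometry TopologicalSpace

namespace Groth.Agent.BigSite16.GenTop

variable {S : Scheme.{u}} (C : MorphismProperty Scheme.{u})

/-- The finite data over one affine open. -/
def Piece (X : Over S) (R : Sieve X) (U : X.left.Opens) : Prop :=
  ∃ (κ : Type u) (_ : Finite κ) (V : κ → Over S) (φ : ∀ j, V j ⟶ X)
    (ψ : ∀ j, (V j).left ⟶ (U : Scheme.{u})),
    (∀ j, IsAffine (V j).left) ∧ (∀ j, R.arrows (φ j)) ∧ (∀ j, ψ j ≫ U.ι = (φ j).left) ∧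
      C (Limits.Sigma.desc ψ)

/-- The covering condition. -/
def Cov (X : Over S) (R : Sieve X) : Prop :=
  ∃ (ι : Type u) (U : ι → X.left.Opens), (∀ i, IsAffineOpen (U i)) ∧ ⨆ i, U i = ⊤ ∧ ∀ i, Piece C X R (U i)

variable [C.IsStableUnderComposition] [C.IsStableUnderBaseChange]
  (hcoprod : ∀ (κ : Type u) [Finite κ] (A B : κ → Scheme.{u}) (f : ∀ j, A j ⟶ B j),
      (∀ j, C (f j)) → C (Limits.Sigma.map f))
  (haff : ∀ (U : Scheme.{u}) [IsAffine U] (κ : Type u) [Finite κ] (V : κ → U.Opens),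
      (∀ j, IsAffineOpen (V j)) → ⨆ j, V j = ⊤ → C (Limits.Sigma.desc fun j => (V j).ι))

include haff in
theorem desc_id (U : Scheme.{u}) [IsAffine U] : C (Limits.Sigma.desc fun _ : PUnit.{u + 1} => 𝟙 U) := by
  have h := haff U PUnit.{u + 1} (fun _ => ⊤) (fun _ => isAffineOpen_top U) (by simp)
  have e : (Limits.Sigma.desc fun _ : PUnit.{u + 1} => (⊤ : U.Opens).ι) =
      Limits.Sigma.map (fun _ : PUnit.{u + 1} => (⊤ : U.Opens).ι) ≫ Limits.Sigma.desc fun _ => 𝟙 U := by
    ext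
    simp
  rw [e] at h
  haveI : IsIso (Limits.Sigma.map fun _ : PUnit.{u + 1} => (⊤ : U.Opens).ι) :=
    inferInstanceAs (IsIso (Limits.Sigma.mapIso fun _ : PUnit.{u + 1} => U.topIso).hom)
  rwa [MorphismProperty.cancel_left_of_respectsIso C] at h

include hcoprod in
theorem desc_comp {T : Scheme.{u}} {κ : Type u} [Finite κ] {B : κ → Scheme.{u}} (g : ∀ b, B b ⟶ T)
    (hg : C (Limits.Sigma.desc g)) {L : κ → Type u} [∀ b, Finite (L b)] {A : ∀ b, L b → Scheme.{u}}
    (h : ∀ b l, A b l ⟶ B b) (hh : ∀ b, C (Limits.Sigma.desc (h b))) :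
    C (Limits.Sigma.desc fun p : Σ b, L b => h p.1 p.2 ≫ g p.1) := by
  have e : (Limits.Sigma.desc fun p : Σ b, L b => h p.1 p.2 ≫ g p.1) =
      (Limits.sigmaSigmaIso L A).inv ≫ Limits.Sigma.map (fun b => Limits.Sigma.desc (h b)) ≫ Limits.Sigma.desc g := by
    rw [Iso.eq_inv_comp]
    ext b l
    simp
  rw [e, MorphismProperty.cancel_left_of_respectsIso C]
  exact MorphismProperty.comp_mem _ _ _ (hcoprod _ _ _ _ hh) hg

include haff in
theorem desc_pullback {T T' : Scheme.{u}} [IsAffine T'] (g : T' ⟶ T) {κ : Type u} [Finite κ] {V : κ → Scheme.{u}}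
    (ψ : ∀ j, V j ⟶ T) (hψ : C (Limits.Sigma.desc ψ)) :
    C (Limits.Sigma.desc fun p : κ × PUnit.{u + 1} => pullback.snd (ψ p.1) g) := by
  have h := FinitaryPreExtensive.isPullback_sigmaDesc ψ (fun _ : PUnit.{u + 1} => g)
  have h' := MorphismProperty.of_isPullback (P := C) h hψ
  have e : (Limits.Sigma.desc fun p : κ × PUnit.{u + 1} => pullback.snd (ψ p.1) g) =
      (Limits.Sigma.desc fun p : κ × PUnit.{u + 1} =>
        pullback.snd (ψ p.1) g ≫ Limits.Sigma.ι (fun _ : PUnit.{u + 1} => T') p.2) ≫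
          Limits.Sigma.desc fun _ : PUnit.{u + 1} => 𝟙 T' := by
    ext p
    simp
  rw [e]
  exact MorphismProperty.comp_mem _ _ _ h' (desc_id C haff T')

include hcoprod haff in
/-- The covering condition defines a topology. -/
theorem exists_topology : ∃ J : GrothendieckTopology (Over S), ∀ (X : Over S) (R : Sieve X), R ∈ J X ↔ Cov C X R := by
  refine ⟨{ sieves := fun X => {R | Cov C X R}, top_mem' := ?_, pullback_stable' := ?_, transitive' := ?_ },
    fun X R => Iff.rfl⟩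
  · intro X
    refine ⟨X.left.affineOpens, fun U => U.1, fun U => U.2, iSup_affineOpens_eq_top _, fun U => ?_⟩
    haveI : IsAffine (U.1 : Scheme.{u}) := U.2
    exact ⟨PUnit, inferInstance, fun _ => Over.mk (U.1.ι ≫ X.hom), fun _ => Over.homMk U.1.ι rfl,
      fun _ => 𝟙 _, fun _ => U.2, fun _ => trivial, fun _ => Category.id_comp _, desc_id C haff _⟩
  · rintro X X' R f ⟨ι, U, hU, hcov, hP⟩
    have key : ∀ x : X'.left, ∃ (i : ι) (U' : X'.left.Opens), x ∈ U' ∧ IsAffineOpen U' ∧ U' ≤ f.left ⁻¹ᵁ U i := by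
      intro x
      obtain ⟨i, hi⟩ := Opens.mem_iSup.1 (hcov.ge (Opens.mem_top (f.left x)))
      obtain ⟨_, ⟨W, hW, rfl⟩, hxW, hle⟩ :=
        X'.left.isBasis_affineOpens.exists_subset_of_mem_open hi (f.left ⁻¹ᵁ U i).isOpen
      exact ⟨i, W, hxW, hW, hle⟩
    choose i U' hxU hU' hle using key
    refine ⟨X'.left, U', hU', eq_top_iff.2 fun x _ => Opens.mem_iSup.2 ⟨x, hxU x⟩, fun x => ?_⟩
    obtain ⟨κ, _, V, φ, ψ, hV, hR, hψ, hC⟩ := hP (i x)
    haveI : IsAffine (U' x : Scheme.{u}) := hU' x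
    haveI : IsAffine (U (i x) : Scheme.{u}) := hU _
    let g : (U' x : Scheme.{u}) ⟶ (U (i x) : Scheme.{u}) := f.left.resLE _ _ (hle x)
    let W : κ × PUnit.{u + 1} → Over S := fun p => Over.mk (pullback.snd (ψ p.1) g ≫ (U' x).ι ≫ X'.hom)
    let a : ∀ p : κ × PUnit.{u + 1}, W p ⟶ X' := fun p => Over.homMk (pullback.snd (ψ p.1) g ≫ (U' x).ι) (by simp [W])
    let b : ∀ p : κ × PUnit.{u + 1}, W p ⟶ V p.1 := fun p => Over.homMk (pullback.fst (ψ p.1) g) (by
      change pullback.fst (ψ p.1) g ≫ (V p.1).hom = pullback.snd (ψ p.1) g ≫ (U' x).ι ≫ X'.hom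
      rw [← Over.w (φ p.1), ← hψ p.1, Category.assoc, pullback.condition_assoc, ← Over.w f]
      simp [g])
    refine ⟨κ × PUnit.{u + 1}, inferInstance, W, a, fun p => pullback.snd (ψ p.1) g, fun p => ?_, fun p => ?_,
      fun p => rfl, desc_pullback C haff g ψ hC⟩
    · haveI := hV p.1
      exact inferInstanceAs (IsAffine (pullback (ψ p.1) g))
    · have e : a p ≫ f = b p ≫ φ p.1 := by
        ext
        change (pullback.snd (ψ p.1) g ≫ (U' x).ι) ≫ f.left = pullback.fst (ψ p.1) g ≫ (φ p.1).left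
        rw [← hψ, pullback.condition_assoc, Category.assoc]
        simp [g]
      change R.arrows (a p ≫ f)
      rw [e]
      exact R.downward_closed (hR _) _
  · rintro X R ⟨ι, U, hU, hcov, hP⟩ R' h
    refine ⟨ι, U, hU, hcov, fun i => ?_⟩
    obtain ⟨κ, _, V, φ, ψ, hV, hR, hψ, hC⟩ := hP i
    choose ιV UV hUV hcovV hPV using fun j => h (hR j)
    have fin : ∀ j, ∃ (n : ℕ) (a : ULift.{u} (Fin n) → ιV j), ⨆ k, UV j (a k) = ⊤ := fun j => by
      haveI := hV j
      obtain ⟨s, hs⟩ := isCompact_univ.elim_finite_subcover (fun k => (UV j k : Set (V j).left))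
        (fun k => (UV j k).isOpen) (fun x _ => by
          obtain ⟨k, hk⟩ := Opens.mem_iSup.1 ((hcovV j).ge (Opens.mem_top x))
          exact Set.mem_iUnion.2 ⟨k, hk⟩)
      refine ⟨s.card, fun k => (s.equivFin.symm k.down).1, eq_top_iff.2 fun x _ => ?_⟩
      obtain ⟨k, hk, hx⟩ := Set.mem_iUnion₂.1 (hs (Set.mem_univ x))
      exact Opens.mem_iSup.2 ⟨⟨s.equivFin ⟨k, hk⟩⟩, by simpa using hx⟩
    choose n a ha using fin
    choose L hL W θ χ hW hR' hχ hCχ using fun (p : Σ j, ULift.{u} (Fin (n j))) => hPV p.1 (a p.1 p.2)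
    haveI : ∀ p, Finite (L p) := hL
    have h1 : C (Limits.Sigma.desc fun p : Σ j, ULift.{u} (Fin (n j)) => (UV p.1 (a p.1 p.2)).ι ≫ ψ p.1) :=
      desc_comp C hcoprod ψ hC (fun j k => (UV j (a j k)).ι) fun j =>
        haveI := hV j
        haff _ _ _ (fun k => hUV j _) (ha j)
    have h2 := desc_comp C hcoprod _ h1 χ hCχ
    refine ⟨Σ p : (Σ j, ULift.{u} (Fin (n j))), L p, inferInstance, fun q => W q.1 q.2,
      fun q => θ q.1 q.2 ≫ φ q.1.1, _, fun q => hW _ _, fun q => hR' q.1 q.2, fun q => ?_, h2⟩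
    change (χ q.1 q.2 ≫ (UV _ _).ι ≫ ψ _) ≫ (U i).ι = _
    rw [Category.assoc, Category.assoc, hψ, reassoc_of% hχ]
    rfl

end Groth.Agent.BigSite16.GenTop
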